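import Groth.Agent.GrassShLib.FreeChart
import Groth.Agent.OmegaUnivLib.Aff
import Groth.Agent.SplitP1Lib.Frames
import Groth.Agent.SeesawVB.Frames

/-!
# Charts of projective bundles and frames of their differentials
-/

set_option autoImplicit false
set_option backward.isDefEq.respectTransparency false
set_option linter.style.haveILetI false

universe u

open CategoryTheory CategoryTheory.Limits AlgebraicGeometry TopologicalSpace Opposite Grass
open Groth.Agent.PullbackMod Groth.Agent.FlagLib Groth.Agent.DegDevLib Groth.Agent.GrassRepLib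
open Groth.Agent.GrassShLib

noncomputable section

namespace Groth.Agent.SFFLib

/-- Sections of a quasi-coherent module forming a basis over an affine open form a frame. -/
theorem isFrame_of_bijective {X : Scheme.{u}} (M : X.Modules) [Coh.IsQCoh M] {W : X.Opens} (hW : IsAffineOpen W)
    {n : ℕ} (f : Fin n → Γ(M, W)) (hb : Function.Bijective (Fintype.linearCombination Γ(X, W) f)) :
    IsFrame W f := fun y hy => by
  classical
  letI := Module.compHom (M.presheaf.stalk y) (X.presheaf.germ W y hy).hom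
  letI : Algebra Γ(X, W) (X.presheaf.stalk y) := (X.presheaf.germ W y hy).hom.toAlgebra
  haveI : IsScalarTower Γ(X, W) (X.presheaf.stalk y) (M.presheaf.stalk y) := .of_algebraMap_smul fun _ _ => rfl
  haveI : IsLocalization.AtPrime (X.presheaf.stalk y) (hW.primeIdealOf ⟨y, hy⟩).asIdeal :=
    hW.isLocalization_stalk ⟨y, hy⟩
  haveI := FlatLocus.isLocalizedModule_germL M hW y hy
  let b : Module.Basis (Fin n) Γ(X, W) Γ(M, W) := Module.Basis.ofEquivFun (LinearEquiv.ofBijective _ hb).symm
  have hbf : ∀ i, b i = f i := fun i => by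
    simp [b, Module.Basis.coe_ofEquivFun, Fintype.linearCombination_apply_single]
  let b' : Module.Basis (Fin n) (X.presheaf.stalk y) (M.presheaf.stalk y) :=
    b.ofIsLocalizedModule (X.presheaf.stalk y) (hW.primeIdealOf ⟨y, hy⟩).asIdeal.primeCompl
      (FlatLocus.germL M W y hy)
  have e : ⇑(Fintype.linearCombination (X.presheaf.stalk y) fun i => M.presheaf.germ W y hy (f i)) =
      ⇑b'.equivFun.symm := by
    funext r
    rw [Fintype.linearCombination_apply, b'.equivFun_symm_apply]
    refine Finset.sum_congr rfl fun i _ => ?_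
    rw [Module.Basis.ofIsLocalizedModule_apply, hbf]
    rfl
  rw [e]
  exact b'.equivFun.symm.bijective

/-- The differentials of a polynomial algebra form a basis. -/
theorem bijective_D_of_aeval {A B : Type u} [CommRing A] [CommRing B] [Algebra A B] {ι : Type*} [Fintype ι]
    (y : ι → B) (hy : Function.Bijective (MvPolynomial.aeval (R := A) y)) :
    Function.Bijective (Fintype.linearCombination B fun s => KaehlerDifferential.D A B (y s)) := by
  classical
  let e := AlgEquiv.ofBijective _ hy
  have he : ∀ s, e.symm (y s) = MvPolynomial.X s := fun s => e.symm_apply_eq.2 (MvPolynomial.aeval_X _ _).symm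
  constructor
  · intro c c' hcc
    funext s
    let δ : Derivation A B B := Derivation.mk'
      { toFun := fun b => e (MvPolynomial.pderiv s (e.symm b))
        map_add' := fun a b => by simp only [map_add]
        map_smul' := fun a b => by simp only [map_smul, RingHom.id_apply, Derivation.map_smul] }
      fun a b => by
        show e (MvPolynomial.pderiv s (e.symm (a * b))) = _
        rw [map_mul, Derivation.leibniz, smul_eq_mul, smul_eq_mul, map_add, map_mul, map_mul, e.apply_symm_apply,
          e.apply_symm_apply]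
        rfl
    have h := congrArg δ.liftKaehlerDifferential hcc
    simp only [Fintype.linearCombination_apply, map_sum, map_smul, Derivation.liftKaehlerDifferential_comp_D] at h
    have hδ : ∀ t, δ (y t) = if t = s then 1 else 0 := fun t => by
      show e (MvPolynomial.pderiv s (e.symm (y t))) = _
      rw [he, MvPolynomial.pderiv_X, Pi.single_apply]
      rcases eq_or_ne t s with rfl | hts
      · simp
      · simp [hts, Ne.symm hts]
    simpa [hδ] using h
  · rw [← LinearMap.range_eq_top, Fintype.range_linearCombination, eq_top_iff,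
      ← KaehlerDifferential.span_range_derivation, Submodule.span_le]
    rintro _ ⟨b, rfl⟩
    obtain ⟨q, rfl⟩ := hy.2 b
    induction q using MvPolynomial.induction_on with
    | C a => rw [MvPolynomial.aeval_C, Derivation.map_algebraMap]; exact Submodule.zero_mem _
    | add p q hp hq => rw [map_add, map_add]; exact Submodule.add_mem _ hp hq
    | mul_X p s hp =>
      rw [map_mul, MvPolynomial.aeval_X, Derivation.leibniz]
      exact Submodule.add_mem _ (Submodule.smul_mem _ _ (Submodule.subset_span ⟨s, rfl⟩))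
        (Submodule.smul_mem _ _ hp)

variable {S P : Scheme.{u}} {p : P ⟶ S} {F : S.Modules} [Coh.IsQCoh F] {O1 : P.Modules}
  {q : (Scheme.Modules.pullback p).obj F ⟶ O1} (hG : IsGrass p F 1 O1 q)

include hG in
/-- A chart of a projective bundle of a free module. -/
theorem exists_chart {V : S.Opens} (hV : IsAffineOpen V) {n : ℕ} {σ : Fin n → Γ(F, V)} (hσ : IsFrame V σ)
    {x : P} (hx : p x ∈ V) :
    ∃ (W : P.Opens) (hle : W ≤ p ⁻¹ᵁ V) (_ : x ∈ W) (_ : IsAffineOpen W) (i₀ : Fin n) (y : Fin n → Γ(P, W)),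
      IsFrame (E := O1) W (fun _ : Fin 1 => q.app W (pullMap p F hle (σ i₀))) ∧ y i₀ = 1 ∧
      (∀ j, q.app W (pullMap p F hle (σ j)) = y j • q.app W (pullMap p F hle (σ i₀))) ∧
      letI := (p.appLE V W hle).hom.toAlgebra
      Function.Bijective (MvPolynomial.aeval (R := Γ(S, V)) fun s : {j : Fin n // j ≠ i₀} => y s.1) := by
  classical
  obtain ⟨I, hI⟩ := exists_frameIdx_mem hG hV hσ hx
  let D : QData F 1 p := ⟨O1, q, hG.rank, hG.epi⟩
  let i := frameIdx hV hσ I
  let c := chartMap hG i
  haveI : IsOpenImmersion c := isOpenImmersion_chartMap hG i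
  haveI : IsAffine i.Z.left := inferInstanceAs (IsAffine (Spec _))
  let W : P.Opens := c ''ᵁ ⊤
  have hcp : c ≫ p = i.Z.hom := chartMap_comp hG i
  have hle : W ≤ p ⁻¹ᵁ V := by
    rintro _ ⟨z, -, rfl⟩
    show p (c z) ∈ V
    rw [← Scheme.Hom.comp_apply, hcp]
    exact i.le_preimage (x := z) trivial
  have hWc : ⊤ ≤ c ⁻¹ᵁ W := fun z _ => ⟨z, trivial, rfl⟩
  have hxW : x ∈ W := by
    have h : x ∈ Set.range c := by rw [range_chartMap]; exact hI
    obtain ⟨z, rfl⟩ := h
    exact ⟨z, trivial, rfl⟩
  haveI := (D.bc c hcp).epi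
  haveI := i.univD.epi
  have h0 := bc_clsMap hG i.univD
  rw [QData.bc_cls] at h0
  obtain ⟨ε, hε⟩ := exists_iso_of_kerS_eq i.univD.s (D.bc c hcp).s (congrArg Subtype.val h0).symm
  -- the generator
  let g : Γ(O1, W) := q.app W (pullMap p F hle (σ (I 0)))
  let G : Γ((D.bc c hcp).L, ⊤) := ε.hom.app ⊤ (i.univF 0)
  have hbc : ∀ j, pullMap c O1 hWc (q.app W (pullMap p F hle (σ j))) = i.coord j 0 • G := fun j => by
    refine (vecS_bc D c hcp hle i.le_preimage hWc (σ j)).symm.trans ?_
    rw [← vecS_iso ε hε i.le_preimage, i.vecS_univ, map_sum, Fin.sum_univ_one, Scheme.Modules.Hom.app_smul]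
  have hgG : pullMap c O1 hWc g = G := by
    rw [hbc, show i.coord (I 0) 0 = 1 by
      rw [show I 0 = i.I 0 from rfl, i.coord_self]; simp, one_smul]
  have hFG : IsFrame (E := (D.bc c hcp).L) ⊤ fun _ : Fin 1 => G := by
    have h := SplitP1Lib.IsFrame.of_iso i.isFrame_univF ε
    convert h using 2 with k
    rw [Fin.fin_one_eq_zero k]
  have hg : IsFrame (E := O1) W (fun _ : Fin 1 => g) := by
    rw [isFrame_iff_spanAt D.rank]
    rintro _ ⟨z, -, rfl⟩
    refine (spanAt_pullMap_iff c D.rank hWc trivial).1 ?_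
    rw [show (fun _ : Fin 1 => pullMap c D.L hWc g) = fun _ : Fin 1 => G from funext fun _ => hgG]
    exact (isFrame_iff_spanAt (D.bc c hcp).rank _).1 hFG z trivial
  -- the coordinates
  have hval : ∀ a, c.appLE W ⊤ hWc ((c.appIso ⊤).inv a) = a := fun a => by
    rw [← c.appIso_hom' ⊤]
    exact congr($((c.appIso ⊤).inv_hom_id) a)
  let y : Fin n → Γ(P, W) := fun j => (c.appIso ⊤).inv (i.coord j 0)
  have hy₀ : y (I 0) = 1 := by
    show (c.appIso ⊤).inv _ = _
    rw [show i.coord (I 0) 0 = 1 by rw [show I 0 = i.I 0 from rfl, i.coord_self]; simp, map_one]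
  have hy : ∀ j, q.app W (pullMap p F hle (σ j)) = y j • g := fun j => by
    obtain ⟨r, hr⟩ := hg.bijective.2 (q.app W (pullMap p F hle (σ j)))
    rw [Fintype.linearCombination_apply, Fin.sum_univ_one] at hr
    have h1 := hbc j
    rw [← hr, pullMap_smul, hgG] at h1
    have h2 : (fun _ : Fin 1 => c.appLE W ⊤ hWc (r 0)) = fun _ : Fin 1 => i.coord j 0 :=
      hFG.bijective.1 (by simpa [Fintype.linearCombination_apply, Fin.sum_univ_one] using h1)
    rw [← hr]
    congr 1
    have h3 := congrFun h2 0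
    have hinj : Function.Injective (c.appLE W ⊤ hWc) := by
      rw [← c.appIso_hom' ⊤]; exact (ConcreteCategory.bijective_of_isIso (c.appIso ⊤).hom).1
    exact hinj (h3.trans (hval _).symm)
  refine ⟨W, hle, hxW, (isAffineOpen_top _).image_of_isOpenImmersion c, I 0, y, hg, hy₀, hy, ?_⟩
  letI := (p.appLE V W hle).hom.toAlgebra
  -- the ring of the chart
  let ψ : i.A →+* Γ(P, W) :=
    ((Scheme.ΓSpecIso (.of i.A)).inv ≫ (c.appIso ⊤).inv).hom
  have hψ : Function.Bijective ψ :=
    ConcreteCategory.bijective_of_isIso ((Scheme.ΓSpecIso (.of i.A)).inv ≫ (c.appIso ⊤).inv)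
  have hmk : Function.Bijective (Ideal.Quotient.mk i.J) := by
    refine ⟨?_, Ideal.Quotient.mk_surjective⟩
    rw [RingHom.injective_iff_ker_eq_bot, Ideal.mk_ker]
    exact J_frameIdx hV hσ I
  have hC : ∀ a : Γ(S, V), ψ (algebraMap Γ(S, V) i.A a) = p.appLE V W hle a := fun a => by
    show (c.appIso ⊤).inv ((Scheme.ΓSpecIso (.of i.A)).inv (algebraMap Γ(S, V) i.A a)) = _
    rw [← i.appLE_hom a]
    refine (ConcreteCategory.bijective_of_isIso (c.appIso ⊤).hom).1 ?_
    refine (congr($((c.appIso ⊤).inv_hom_id) _)).trans ?_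
    have h4 : p.appLE V W hle ≫ c.appLE W ⊤ hWc = i.Z.hom.appLE V ⊤ i.le_preimage := by
      rw [Scheme.Hom.appLE_comp_appLE]
      simp only [hcp]
    rw [c.appIso_hom']
    exact (congr($h4 a)).symm
  have hout : ∀ j : Fin n, j ≠ I 0 → j ∉ Set.range I := fun j hj ⟨k, hk⟩ => hj (by
    rw [← hk, Fin.fin_one_eq_zero k])
  let ρ : {j : Fin n // j ≠ I 0} ≃ Fin 1 × outside I :=
    { toFun := fun s => (0, ⟨s.1, hout s.1 s.2⟩)
      invFun := fun s => ⟨s.2.1, fun h => s.2.2 ⟨0, h.symm⟩⟩
      left_inv := fun s => rfl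
      right_inv := fun s => Prod.ext (Fin.fin_one_eq_zero _).symm rfl }
  have hcomp : (MvPolynomial.aeval (R := Γ(S, V)) fun s : {j : Fin n // j ≠ I 0} => y s.1).toRingHom =
      (ψ.comp (Ideal.Quotient.mk i.J)).comp (MvPolynomial.renameEquiv Γ(S, V) ρ).toRingEquiv.toRingHom := by
    refine MvPolynomial.ringHom_ext (fun a => ?_) fun s => ?_
    · simp only [AlgHom.toRingHom_eq_coe, RingHom.coe_coe, MvPolynomial.aeval_C, RingHom.comp_apply]
      show p.appLE V W hle a = ψ (Ideal.Quotient.mk i.J (MvPolynomial.rename ρ (MvPolynomial.C a)))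
      rw [MvPolynomial.rename_C]
      exact (hC a).symm
    · simp only [AlgHom.toRingHom_eq_coe, RingHom.coe_coe, MvPolynomial.aeval_X, RingHom.comp_apply]
      show y s.1 = ψ (Ideal.Quotient.mk i.J (MvPolynomial.rename ρ (MvPolynomial.X s)))
      rw [MvPolynomial.rename_X]
      show (c.appIso ⊤).inv (i.coord s.1 0) = (c.appIso ⊤).inv ((Scheme.ΓSpecIso (.of i.A)).inv _)
      congr 1
      show (Scheme.ΓSpecIso (.of i.A)).inv (Ideal.Quotient.mk i.J (colOf I MvPolynomial.X s.1 0)) = _
      rw [show colOf I MvPolynomial.X s.1 0 = _ from colOf_outside I MvPolynomial.X (ρ s)]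
  have h := (hψ.comp hmk).comp (MvPolynomial.renameEquiv Γ(S, V) ρ).toRingEquiv.bijective
  have h5 : ⇑(MvPolynomial.aeval (R := Γ(S, V)) fun s : {j : Fin n // j ≠ I 0} => y s.1) =
      ⇑((ψ.comp (Ideal.Quotient.mk i.J)).comp (MvPolynomial.renameEquiv Γ(S, V) ρ).toRingEquiv.toRingHom) :=
    congrArg (fun φ : MvPolynomial _ _ →+* _ => ⇑φ) hcomp
  rw [h5]
  exact h

/-- The differentials of the chart coordinates form a frame. -/
theorem isFrame_d {Ω : P.Modules} {d : OmegaSh.Der p Ω} (hd : OmegaSh.IsUniversal d) {V : S.Opens}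
    (hV : IsAffineOpen V) {W : P.Opens} (hW : IsAffineOpen W) (hle : W ≤ p ⁻¹ᵁ V) {ι : Type*} [Fintype ι]
    (y : ι → Γ(P, W)) {m : ℕ} (κ : Fin m ≃ ι)
    (hy : letI := (p.appLE V W hle).hom.toAlgebra; Function.Bijective (MvPolynomial.aeval (R := Γ(S, V)) y)) :
    IsFrame (E := Ω) W fun a => d.app W (y (κ a)) := by
  classical
  letI := (p.appLE V W hle).hom.toAlgebra
  haveI := OmegaUnivLib.isQCoh_of_universal hd
  obtain ⟨T, hT⟩ := OmegaUnivLib.exists_lin_of_der d hle
  have hTb := OmegaUnivLib.bijective_of_universal hV hW hle hd T hT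
  refine isFrame_of_bijective Ω hW _ ?_
  have e : ⇑(Fintype.linearCombination Γ(P, W) fun a => d.app W (y (κ a))) =
      (T ∘ ⇑(Fintype.linearCombination Γ(P, W) fun s => KaehlerDifferential.D Γ(S, V) Γ(P, W) (y s))) ∘
        fun r => r ∘ κ.symm := by
    funext r
    simp only [Function.comp_apply, Fintype.linearCombination_apply, map_sum, map_smul, hT]
    exact (Equiv.sum_comp κ.symm fun a => r a • d.app W (y (κ a))).symm.trans
      (Finset.sum_congr rfl fun s _ => by rw [Equiv.apply_symm_apply])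
  rw [e]
  exact (hTb.comp (bijective_D_of_aeval y hy)).comp
    (Equiv.arrowCongr κ (Equiv.refl Γ(P, W))).bijective

end Groth.Agent.SFFLib
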