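import Groth.Agent.SFFLib.Jet
import Groth.Agent.SFFLib.Chart
import Groth.Agent.DegDevLib.Det
import Groth.Agent.QCohLib.Exact

/-!
# Differentials of a projective bundle as the kernel of the universal quotient
-/

set_option autoImplicit false
set_option backward.isDefEq.respectTransparency false
set_option linter.style.haveILetI false

universe u

open CategoryTheory CategoryTheory.Limits AlgebraicGeometry TopologicalSpace Opposite Grass
open Groth.Agent.PullbackMod Groth.Agent.DegDevLib Groth.Agent.DCohLib Groth.Agent.ParaFLib Groth.Agent.AmpleLib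

noncomputable section

namespace Groth.Agent.SFFLib

variable {S P : Scheme.{u}} {p : P ⟶ S} {F : S.Modules} {O1 : P.Modules}
  {q : (Scheme.Modules.pullback p).obj F ⟶ O1} {Ω : P.Modules} {d : OmegaSh.Der p Ω}

/-- The second fundamental form is an isomorphism at every point. -/
theorem bijective_stalk_sff (hG : IsGrass p F 1 O1 q) (hd : OmegaSh.IsUniversal d) (hF : FlatMod.IsFinLocFree F)
    (x : P) : Function.Bijective (stalkLin (sff d q) x) := by
  classical
  haveI := (isQCoh_and_isFP_of_isFinLocFree F hF).1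
  obtain ⟨U, n, σ₀, hxU, hσ₀⟩ := SeesawVB.exists_frame_at hF (p x)
  obtain ⟨_, ⟨V : S.Opens, hV : IsAffineOpen V, rfl⟩, hxV, hVU⟩ :=
    S.isBasis_affineOpens.exists_subset_of_mem_open (a := p x) (u := ↑U) hxU U.2
  have hVU' : V ≤ U := hVU
  have hσ := hσ₀.res hVU'
  let σ : Fin n → Γ(F, V) := fun i => F.presheaf.map (homOfLE hVU').op (σ₀ i)
  obtain ⟨W, hle, hxW, hW, i₀, y, hg, hy₀, hy, hpoly⟩ := exists_chart hG hV hσ (x := x) hxV
  let e : Fin n → Γ((Scheme.Modules.pullback p).obj F, W) := fun j => pullMap p F hle (σ j)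
  have he : IsFrame (E := (Scheme.Modules.pullback p).obj F) W e := SeesawVB.isFrame_pullMap p hσ hle
  let g : Γ(O1, W) := q.app W (e i₀)
  have hgen : Gen W g := gen_of_germ fun z hz => by
    have h := (hg z hz).comp (Equiv.funUnique (Fin 1) (P.presheaf.stalk z)).symm.bijective
    convert h using 1
    funext r
    simp [Fintype.linearCombination_apply, g, e, σ]
  let m := Fintype.card {j : Fin n // j ≠ i₀}
  let κ : Fin m ≃ {j : Fin n // j ≠ i₀} := (Fintype.equivFin _).symm
  have hΩ := isFrame_d hd hV hW hle (fun s : {j : Fin n // j ≠ i₀} => y s.1) κ hpoly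
  let τ : Fin m → Γ(tmod Ω O1, W) := fun a => pairS Ω O1 (d.app W (y (κ a).1)) g
  have hτ : IsFrame (E := tmod Ω O1) W τ := IsFrame.tensor hΩ hgen
  have hk : ∀ a, ∃ t, (kernel.ι q).app W t = e (κ a).1 - y (κ a).1 • e i₀ := fun a =>
    QCohLib.kernel_app_exact q W _ (by
      rw [map_sub, Scheme.Modules.Hom.app_smul, hy (κ a).1, sub_self])
  choose t ht using hk
  have ht' : ∀ a, (sff d q).app W (t a) = - τ a := fun a => by
    have hne : (κ a).1 ≠ i₀ := (κ a).2
    let b : Fin n → Γ(P, W) := fun j => if j = (κ a).1 then 1 else if j = i₀ then - y (κ a).1 else 0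
    have hb : (kernel.ι q).app W (t a) = ∑ j, b j • pullMap p F hle (σ j) := by
      rw [Finset.sum_eq_add (κ a).1 i₀ hne
        (fun j _ hj => by simp [b, hj.1, hj.2]) (fun h => absurd (Finset.mem_univ _) h)
        (fun h => absurd (Finset.mem_univ _) h), ht]
      simp [b, hne.symm, e, sub_eq_add_neg]
    rw [sff_eq d q hle σ b (t a) hb, Finset.sum_eq_single i₀]
    · simp only [b, if_neg hne.symm, if_true, map_neg, τ]
      exact (AddMonoidHom.mk' (fun w : Γ(Ω, W) => pairS Ω O1 w g)
        fun v w => pairS_add_left v w g).map_neg (d.app W (y (κ a).1))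
    · intro j _ hj
      have h0 : d.app W (b j) = 0 := by
        simp only [b, if_neg hj]
        split
        · exact OmegaUnivLib.app_one d W
        · exact map_zero _
      rw [h0, pairS_zero_left]
    · exact fun h => absurd (Finset.mem_univ _) h
  -- on the stalk
  let eT := fun r : Fin m → P.presheaf.stalk x =>
    ∑ a, r a • (kernel q).presheaf.germ W x hxW (t a)
  have hcomp : ∀ r, stalkLin (sff d q) x (eT r) =
      - Fintype.linearCombination (P.presheaf.stalk x) (fun a => (tmod Ω O1).presheaf.germ W x hxW (τ a)) r :=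
    fun r => by
      simp only [eT, map_sum, map_smul, stalkLin_germ, ht', map_neg, smul_neg, Finset.sum_neg_distrib,
        Fintype.linearCombination_apply]
  have hbij : Function.Bijective (fun r => stalkLin (sff d q) x (eT r)) := by
    simp only [hcomp]
    exact (Equiv.neg _).bijective.comp (hτ x hxW)
  have hspan : Function.Surjective eT := fun z => by
    obtain ⟨c, hc⟩ := (he x hxW).2 (stalkLin (kernel.ι q) x z)
    refine ⟨fun a => c (κ a).1, ?_⟩
    have hι := (mono_iff_stalk (kernel.ι q)).1 inferInstance x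
    refine hι ?_
    have hzero : stalkLin q x (stalkLin (kernel.ι q) x z) = 0 := by
      rw [← LinearMap.comp_apply, ← stalkLin_comp, (eq_zero_iff_stalk _).1 (kernel.condition q) x,
        LinearMap.zero_apply]
    rw [← hc, Fintype.linearCombination_apply, map_sum] at hzero
    have hterm : ∀ j, stalkLin q x (c j • ((Scheme.Modules.pullback p).obj F).presheaf.germ W x hxW (e j)) =
        (c j * P.presheaf.germ W x hxW (y j)) • O1.presheaf.germ W x hxW g := fun j => by
      rw [map_smul, stalkLin_germ, mul_smul, ← SubLib.germ_smul']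
      exact congrArg (fun s => c j • O1.presheaf.germ W x hxW s) (hy j)
    rw [Finset.sum_congr rfl fun j _ => hterm j, ← Finset.sum_smul] at hzero
    have hc0 : ∑ j, c j * P.presheaf.germ W x hxW (y j) = 0 :=
      (hgen.bijective_germ x hxW).1 (hzero.trans (zero_smul _ _).symm)
    show stalkLin (kernel.ι q) x (∑ a, c (κ a).1 • (kernel q).presheaf.germ W x hxW (t a)) =
      stalkLin (kernel.ι q) x z
    simp only [map_sum, map_smul, stalkLin_germ, ht, map_sub, SubLib.germ_smul', smul_sub, ← mul_smul,
      Finset.sum_sub_distrib, ← Finset.sum_smul]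
    rw [← hc, Fintype.linearCombination_apply, Equiv.sum_comp κ (fun s => c s.1 •
        ((Scheme.Modules.pullback p).obj F).presheaf.germ W x hxW (e s.1)),
      Equiv.sum_comp κ (fun s => c s.1 * P.presheaf.germ W x hxW (y s.1))]
    have hsplit : ∀ {M : Type u} [AddCommGroup M] (φ : Fin n → M),
        (∑ s : {j : Fin n // j ≠ i₀}, φ s.1) = ∑ j, φ j - φ i₀ := fun φ => by
      rw [eq_sub_iff_add_eq, Finset.sum_subtype (p := fun j => j ≠ i₀) (Finset.univ.erase i₀) (by simp) φ |>.symm,
        Finset.sum_erase_add _ _ (Finset.mem_univ i₀)]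
    rw [hsplit (fun j => c j • ((Scheme.Modules.pullback p).obj F).presheaf.germ W x hxW (e j)),
      hsplit (fun j => c j * P.presheaf.germ W x hxW (y j)), hc0, hy₀, map_one, mul_one, zero_sub, neg_smul,
      sub_neg_eq_add, sub_add_cancel]
  constructor
  · intro z z' hzz
    obtain ⟨r, rfl⟩ := hspan z
    obtain ⟨r', rfl⟩ := hspan z'
    rw [hbij.1 hzz]
  · intro w
    obtain ⟨r, hr⟩ := hbij.2 w
    exact ⟨_, hr⟩

theorem nonempty_iso (hG : IsGrass p F 1 O1 q) (hd : OmegaSh.IsUniversal d) (hF : FlatMod.IsFinLocFree F) :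
    Nonempty (CohB1.tensorMod Ω O1 ≅ kernel q) := by
  haveI : IsIso (sff d q) := (isIso_iff_stalk _).2 fun x => bijective_stalk_sff hG hd hF x
  exact ⟨(asIso (sff d q)).symm⟩

end Groth.Agent.SFFLib
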