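import Groth.Agent.OmegaUnivLib.Basic
import Groth.Agent.DCohLib.StalkTensor
import Groth.Agent.PullbackMod.Hom

/-!
# First order jets of a module and the second fundamental form of a quotient of an inverse image
-/

set_option autoImplicit false
set_option backward.isDefEq.respectTransparency false
set_option linter.style.haveILetI false

universe u

open CategoryTheory CategoryTheory.Limits AlgebraicGeometry TopologicalSpace Opposite
open Groth.Agent.DCohLib Groth.Agent.PullbackMod

noncomputable section

namespace Groth.Agent.SFFLib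

variable {X S : Scheme.{u}} {p : X ⟶ S} {Ω : X.Modules} (d : OmegaSh.Der p Ω) (L : X.Modules)

theorem pairS_zero_left {U : X.Opens} (l : Γ(L, U)) : pairS Ω L (0 : Γ(Ω, U)) l = 0 := by
  have h := pairS_smul_left (M := Ω) (N := L) (0 : Γ(X, U)) 0 l
  rwa [zero_smul, zero_smul] at h

theorem pairS_zero_right {U : X.Opens} (m : Γ(Ω, U)) : pairS Ω L m (0 : Γ(L, U)) = 0 := by
  have h := pairS_smul_right (M := Ω) (N := L) (0 : Γ(X, U)) m 0
  rwa [zero_smul, zero_smul] at h

/-- First order jets over an open. -/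
def Jet (_d : OmegaSh.Der p Ω) (L : X.Modules) (U : X.Opens) : Type u := Γ(tmod Ω L, U) × Γ(L, U)

instance (U : X.Opens) : AddCommGroup (Jet d L U) :=
  inferInstanceAs (AddCommGroup (Γ(tmod Ω L, U) × Γ(L, U)))

variable {d L}

/-- The first component. -/
def Jet.dif {U : X.Opens} : Jet d L U →+ Γ(tmod Ω L, U) := AddMonoidHom.fst _ _

/-- The second component. -/
def Jet.val {U : X.Opens} : Jet d L U →+ Γ(L, U) := AddMonoidHom.snd _ _

/-- A jet from its components. -/
def Jet.mk {U : X.Opens} (w : Γ(tmod Ω L, U)) (l : Γ(L, U)) : Jet d L U := (w, l)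

@[simp] theorem Jet.dif_mk {U : X.Opens} (w : Γ(tmod Ω L, U)) (l : Γ(L, U)) : (Jet.mk (d := d) w l).dif = w := rfl

@[simp] theorem Jet.val_mk {U : X.Opens} (w : Γ(tmod Ω L, U)) (l : Γ(L, U)) : (Jet.mk (d := d) w l).val = l := rfl

@[ext] theorem Jet.ext {U : X.Opens} {a b : Jet d L U} (h₁ : a.dif = b.dif) (h₂ : a.val = b.val) : a = b :=
  Prod.ext h₁ h₂

instance (U : X.Opens) : SMul Γ(X, U) (Jet d L U) :=
  ⟨fun c j => Jet.mk (c • j.dif + pairS Ω L (d.app U c) j.val) (c • j.val)⟩

theorem Jet.dif_smul {U : X.Opens} (c : Γ(X, U)) (j : Jet d L U) :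
    (c • j).dif = c • j.dif + pairS Ω L (d.app U c) j.val := rfl

theorem Jet.val_smul {U : X.Opens} (c : Γ(X, U)) (j : Jet d L U) : (c • j).val = c • j.val := rfl

instance (U : X.Opens) : Module Γ(X, U) (Jet d L U) where
  one_smul j := Jet.ext (by rw [Jet.dif_smul, OmegaUnivLib.app_one, pairS_zero_left, one_smul, add_zero])
    (by rw [Jet.val_smul, one_smul])
  mul_smul a b j := Jet.ext (by
      rw [Jet.dif_smul, Jet.dif_smul, Jet.dif_smul, OmegaUnivLib.app_mul, pairS_add_left, pairS_smul_left,
        pairS_smul_left, smul_add, mul_smul, Jet.val_smul, pairS_smul_right]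
      abel)
    (by rw [Jet.val_smul, Jet.val_smul, Jet.val_smul, mul_smul])
  smul_zero a := Jet.ext (by simp only [Jet.dif_smul, map_zero, smul_zero, pairS_zero_right, add_zero])
    (by simp only [Jet.val_smul, map_zero, smul_zero])
  smul_add a i j := Jet.ext (by simp only [Jet.dif_smul, map_add, smul_add, pairS_add_right]; abel)
    (by simp only [Jet.val_smul, map_add, smul_add])
  add_smul a b j := Jet.ext (by simp only [Jet.dif_smul, map_add, add_smul, pairS_add_left]; abel)
    (by simp only [Jet.val_smul, map_add, add_smul])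
  zero_smul j := Jet.ext (by simp only [Jet.dif_smul, map_zero, zero_smul, pairS_zero_left, add_zero])
    (by simp only [Jet.val_smul, map_zero, zero_smul])

variable (d L)

/-- Restriction of jets. -/
def jetRes {U V : X.Opensᵒᵖ} (i : U ⟶ V) : Jet d L U.unop →+ Jet d L V.unop :=
  AddMonoidHom.mk' (fun j : Jet d L U.unop =>
      (Jet.mk ((tmod Ω L).presheaf.map i j.dif) (L.presheaf.map i j.val) : Jet d L V.unop))
    fun a b => Jet.ext (by simp only [map_add, Jet.dif_mk]) (by simp only [map_add, Jet.val_mk])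

/-- The presheaf of jets. -/
def jetAb : TopCat.Presheaf Ab X where
  obj U := AddCommGrpCat.of (Jet d L U.unop)
  map {U V} i := AddCommGrpCat.ofHom (jetRes d L i)
  map_id U := AddCommGrpCat.hom_ext (AddMonoidHom.ext fun (j : Jet d L U.unop) =>
    @Jet.ext _ _ _ _ d L _ (jetRes d L (𝟙 U) j) j
      (ConcreteCategory.congr_hom ((tmod Ω L).presheaf.map_id U) j.dif)
      (ConcreteCategory.congr_hom (L.presheaf.map_id U) j.val))
  map_comp {U V W} i k := AddCommGrpCat.hom_ext (AddMonoidHom.ext fun (j : Jet d L U.unop) =>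
    @Jet.ext _ _ _ _ d L _ (jetRes d L (i ≫ k) j) (jetRes d L k (jetRes d L i j))
      (ConcreteCategory.congr_hom ((tmod Ω L).presheaf.map_comp i k) j.dif)
      (ConcreteCategory.congr_hom (L.presheaf.map_comp i k) j.val))

instance (U : X.Opensᵒᵖ) : Module (X.ringCatSheaf.obj.obj U) ((jetAb d L).obj U) :=
  inferInstanceAs (Module Γ(X, U.unop) (Jet d L U.unop))

theorem res_smul_jet {U V : X.Opens} (h : V ≤ U) (c : Γ(X, U)) (j : Jet d L U) :
    jetRes d L (homOfLE h).op (c • j : Jet d L U) =
      (X.presheaf.map (homOfLE h).op c • (jetRes d L (homOfLE h).op j : Jet d L V) : Jet d L V) := by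
  refine Jet.ext ?_ ?_
  · show (tmod Ω L).presheaf.map (homOfLE h).op (c • j.dif + pairS Ω L (d.app U c) j.val) =
      X.presheaf.map (homOfLE h).op c • (tmod Ω L).presheaf.map (homOfLE h).op j.dif +
        pairS Ω L (d.app V (X.presheaf.map (homOfLE h).op c)) (L.presheaf.map (homOfLE h).op j.val)
    rw [map_add, Scheme.Modules.map_smul, OmegaUnivLib.app_res]
    exact congrArg _ (res_pairS h _ _)
  · exact Scheme.Modules.map_smul L (homOfLE h) c j.val

/-- The presheaf of modules of jets. -/
def jetPre : X.PresheafOfModules :=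
  PresheafOfModules.ofPresheaf (jetAb d L) fun U V i c j => res_smul_jet d L i.unop.le c j

theorem isSheaf_jetAb : (jetAb d L).IsSheaf := by
  rw [TopCat.Presheaf.isSheaf_iff_isSheafUniqueGluing]
  intro ι U sf hsf
  have hT : TopCat.Presheaf.IsSheaf (tmod Ω L).presheaf := (tmod Ω L).isSheaf
  have hL : TopCat.Presheaf.IsSheaf L.presheaf := L.isSheaf
  obtain ⟨g₁, hg₁, hu₁⟩ := (TopCat.Presheaf.isSheaf_iff_isSheafUniqueGluing _).1 hT U
    (fun i => Jet.dif (d := d) (L := L) (sf i)) fun i k => congrArg (Jet.dif (d := d) (L := L)) (hsf i k)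
  obtain ⟨g₂, hg₂, hu₂⟩ := (TopCat.Presheaf.isSheaf_iff_isSheafUniqueGluing _).1 hL U
    (fun i => Jet.val (d := d) (L := L) (sf i)) fun i k => congrArg (Jet.val (d := d) (L := L)) (hsf i k)
  exact ⟨Jet.mk g₁ g₂, fun i => Jet.ext (hg₁ i) (hg₂ i), fun t ht => Jet.ext
    (hu₁ _ fun i => congrArg (Jet.dif (d := d) (L := L)) (ht i))
    (hu₂ _ fun i => congrArg (Jet.val (d := d) (L := L)) (ht i))⟩

/-- The module of jets. -/
def jetMod : X.Modules where
  val := jetPre d L
  isSheaf := isSheaf_jetAb d L

/-- Jets have values. -/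
def jetVal : jetMod d L ⟶ L where
  val := PresheafOfModules.homMk
    { app := fun U => AddCommGrpCat.ofHom (Jet.val (d := d) (L := L) (U := U.unop))
      naturality := fun U V i => by ext j; rfl }
    fun U c j => rfl

variable {d L} {F : S.Modules} (u : (Scheme.Modules.pullback p).obj F ⟶ L)

/-- The jet of the image of a section pulled back from the base. -/
def jetUnit : F ⟶ (Scheme.Modules.pushforward p).obj (jetMod d L) where
  val := PresheafOfModules.homMk
    { app := fun V => AddCommGrpCat.ofHom (AddMonoidHom.mk' (fun m : Γ(F, V.unop) =>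
        (Jet.mk 0 (u.app _ (((Scheme.Modules.pullbackPushforwardAdjunction p).unit.app F).app V.unop m)) :
          Jet d L (p ⁻¹ᵁ V.unop)))
        fun a b => Jet.ext (by show (0 : Γ(tmod Ω L, p ⁻¹ᵁ V.unop)) = 0 + 0; rw [add_zero]) (by
          show u.app _ _ = u.app _ _ + u.app _ _
          rw [map_add, map_add]))
      naturality := fun V W i => by
        ext m
        refine @Jet.ext _ _ _ _ d L (p ⁻¹ᵁ W.unop) _ _ ?_ ?_
        · exact (map_zero ((tmod Ω L).presheaf.map _).hom).symm
        · have h1 := ConcreteCategory.congr_hom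
            (((Scheme.Modules.pullbackPushforwardAdjunction p).unit.app F).mapPresheaf.naturality i) m
          refine (congrArg (u.app _) h1).trans ?_
          exact ConcreteCategory.congr_hom (u.mapPresheaf.naturality _) _ }
    fun V c m => by
      refine @Jet.ext _ _ _ _ d L (p ⁻¹ᵁ V.unop) _ _ ?_ ?_
      · show (0 : Γ(tmod Ω L, p ⁻¹ᵁ V.unop)) = p.app V.unop c • (0 : Γ(tmod Ω L, p ⁻¹ᵁ V.unop)) +
          pairS Ω L (d.app (p ⁻¹ᵁ V.unop) (p.app V.unop c))
            (u.app _ (((Scheme.Modules.pullbackPushforwardAdjunction p).unit.app F).app V.unop m))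
        have h := OmegaUnivLib.app_appLE d V.unop (p ⁻¹ᵁ V.unop) le_rfl c
        rw [p.appLE_eq_app] at h
        rw [h, pairS_zero_left, smul_zero, add_zero]
      · show u.app _ (((Scheme.Modules.pullbackPushforwardAdjunction p).unit.app F).app V.unop (c • m)) = _
        rw [Scheme.Modules.Hom.app_smul]
        exact Scheme.Modules.Hom.app_smul u (p.app V.unop c) _

/-- The jet of a section of the inverse image. -/
def jetMap : (Scheme.Modules.pullback p).obj F ⟶ jetMod d L :=
  ((Scheme.Modules.pullbackPushforwardAdjunction p).homEquiv F (jetMod d L)).symm (jetUnit u)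

variable (d)

theorem jetMap_val : jetMap (d := d) u ≫ jetVal d L = u := by
  apply ((Scheme.Modules.pullbackPushforwardAdjunction p).homEquiv F L).injective
  rw [Adjunction.homEquiv_naturality_right, jetMap, Equiv.apply_symm_apply, Adjunction.homEquiv_unit]
  refine Scheme.Modules.hom_ext _ _ fun V => AddCommGrpCat.hom_ext (AddMonoidHom.ext fun m => ?_)
  rfl

theorem jetMap_pullMap {V : S.Opens} {W : X.Opens} (e : W ≤ p ⁻¹ᵁ V) (m : Γ(F, V)) :
    (jetMap (d := d) u).app W (pullMap p F e m) = (Jet.mk 0 (u.app W (pullMap p F e m)) : Jet d L W) := by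
  have h1 : ((Scheme.Modules.pullbackPushforwardAdjunction p).unit.app F) ≫
      (Scheme.Modules.pushforward p).map (jetMap (d := d) u) = jetUnit u := by
    exact ((Scheme.Modules.pullbackPushforwardAdjunction p).homEquiv_unit F (jetMod d L) (jetMap (d := d) u)).symm.trans
      (Equiv.apply_symm_apply _ _)
  have h2 := ConcreteCategory.congr_hom (congrArg (fun φ : F ⟶ _ => φ.app V) h1) m
  refine (ConcreteCategory.congr_hom ((jetMap (d := d) u).mapPresheaf.naturality (homOfLE e).op) _).trans ?_
  refine (congrArg ((jetMod d L).presheaf.map (homOfLE e).op) h2).trans ?_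
  refine Jet.ext ?_ ?_
  · exact map_zero ((tmod Ω L).presheaf.map _).hom
  · exact (ConcreteCategory.congr_hom (u.mapPresheaf.naturality (homOfLE e).op) _).symm

/-- The second fundamental form on sections. -/
def sffApp (W : X.Opens) : Γ(kernel u, W) →+ Γ(tmod Ω L, W) :=
  (Jet.dif (d := d) (L := L)).comp ((kernel.ι u ≫ jetMap (d := d) u).app W).hom

theorem val_jetMap_kernel (W : X.Opens) (s : Γ(kernel u, W)) :
    Jet.val (d := d) (L := L) ((kernel.ι u ≫ jetMap (d := d) u).app W s) = 0 := by
  have h : (kernel.ι u ≫ jetMap (d := d) u) ≫ jetVal d L = 0 := by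
    rw [Category.assoc, jetMap_val, kernel.condition]
  exact ConcreteCategory.congr_hom (congrArg (fun φ : kernel u ⟶ L => φ.app W) h) s

/-- The second fundamental form. -/
def sff : kernel u ⟶ tmod Ω L where
  val := PresheafOfModules.homMk
    { app := fun W => AddCommGrpCat.ofHom (sffApp d u W.unop)
      naturality := fun U V i => by
        ext s
        exact congrArg (Jet.dif (d := d) (L := L))
          (ConcreteCategory.congr_hom ((kernel.ι u ≫ jetMap (d := d) u).mapPresheaf.naturality i) s) }
    fun W c s => by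
      show Jet.dif (d := d) (L := L) ((kernel.ι u ≫ jetMap (d := d) u).app W.unop (c • s)) = _
      rw [Scheme.Modules.Hom.app_smul]
      show (id c : Γ(X, W.unop)) • Jet.dif (d := d) (L := L) ((kernel.ι u ≫ jetMap (d := d) u).app W.unop s) +
        pairS Ω L (d.app W.unop c) (Jet.val (d := d) (L := L) ((kernel.ι u ≫ jetMap (d := d) u).app W.unop s)) = _
      rw [val_jetMap_kernel, pairS_zero_right, add_zero]
      rfl

/-- The second fundamental form of a combination of sections from the base. -/
theorem sff_eq {V : S.Opens} {W : X.Opens} (e : W ≤ p ⁻¹ᵁ V) {n : ℕ} (σ : Fin n → Γ(F, V))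
    (b : Fin n → Γ(X, W)) (s : Γ(kernel u, W))
    (hs : (kernel.ι u).app W s = ∑ i, b i • pullMap p F e (σ i)) :
    (sff d u).app W s = ∑ i, pairS Ω L (d.app W (b i)) (u.app W (pullMap p F e (σ i))) := by
  show Jet.dif (d := d) (L := L) ((jetMap (d := d) u).app W ((kernel.ι u).app W s)) = _
  rw [hs, map_sum]
  refine (map_sum (Jet.dif (d := d) (L := L) (U := W)) _ _).trans (Finset.sum_congr rfl fun i _ => ?_)
  rw [Scheme.Modules.Hom.app_smul, jetMap_pullMap]
  show b i • (0 : Γ(tmod Ω L, W)) + pairS Ω L (d.app W (b i)) _ = _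
  rw [smul_zero, zero_add]
  rfl

end Groth.Agent.SFFLib
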